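import Mathlib.GroupTheory.Sylow
import Mathlib.GroupTheory.Index
import Mathlib.Algebra.Group.Subgroup.Pointwise

/-!
A Frattini-type criterion for a Sylow `p`-subgroup to normalise a Sylow `q`-subgroup.
-/

open scoped Pointwise

namespace CfsgLib.SylowPairs

variable {G : Type*} [Group G] [Finite G]

/-- If the `p`-group `P` normalises `X`, the Sylow `q`-subgroup `Q` lies in `X` and the normaliser of
`Q` meets `X` in a subgroup of index prime to `p`, then `P` normalises some Sylow `q`-subgroup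
contained in `X`. -/
theorem exists_normalized_sylow (p q : ℕ) [Fact p.Prime] [Fact q.Prime] {P X : Subgroup G}
    (hP : IsPGroup p P) (hPX : P ≤ Subgroup.normalizer (X : Set G)) (Q : Sylow q G)
    (hQX : (Q : Subgroup G) ≤ X)
    (hidx : ¬ p ∣ (Subgroup.normalizer ((Q : Subgroup G) : Set G)).relIndex X) :
    ∃ Q' : Sylow q G, (Q' : Subgroup G) ≤ X ∧
      P ≤ Subgroup.normalizer ((Q' : Subgroup G) : Set G) := by
  set M := Subgroup.normalizer (X : Set G) with hM
  set NQ := Subgroup.normalizer ((Q : Subgroup G) : Set G) with hNQ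
  have hXM : X ≤ M := Subgroup.le_normalizer
  have hconjX : ∀ m ∈ M, MulAut.conj m • X = X := fun m hm =>
    Subgroup.mem_normalizer_iff_map_conj_eq.mp hm
  -- Frattini: every element of M is an element of X times one normalising Q
  have hfr : ∀ m ∈ M, ∃ x ∈ X, ∃ b ∈ M ⊓ NQ, x * b = m := by
    intro m hm
    have h1 : ((m • Q : Sylow q G) : Subgroup G) ≤ X := by
      rw [← hconjX m hm]
      exact Subgroup.pointwise_smul_le_pointwise_smul_iff.mpr hQX
    obtain ⟨⟨x, hx⟩, hxe⟩ := MulAction.exists_smul_eq X (Q.subtype hQX) ((m • Q).subtype h1)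
    rw [Sylow.smul_subtype hQX ⟨x, hx⟩] at hxe
    have h2 : x • Q = m • Q := Sylow.subtype_injective hxe
    refine ⟨x, hx, x⁻¹ * m, ⟨M.mul_mem (M.inv_mem (hXM hx)) hm, ?_⟩, by group⟩
    refine Sylow.smul_eq_iff_mem_normalizer.mp ?_
    rw [mul_smul, ← h2, inv_smul_smul]
  set B := M ⊓ NQ with hB
  have hidx' : ¬ p ∣ B.relIndex M := by
    have hC : (B.subgroupOf M).relIndex (X.subgroupOf M) = NQ.relIndex X := by
      rw [Subgroup.relIndex_subgroupOf hXM, hB, ← Subgroup.inf_relIndex_right, inf_right_comm,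
        inf_eq_right.mpr hXM, inf_comm X NQ, Subgroup.inf_relIndex_right]
    have htop : B.subgroupOf M ⊔ X.subgroupOf M = ⊤ := by
      rw [eq_top_iff]
      rintro ⟨m, hm⟩ -
      obtain ⟨x, hx, b, hb, rfl⟩ := hfr m hm
      have e : (⟨x * b, hm⟩ : M) = ⟨x, hXM hx⟩ * ⟨b, hb.1⟩ := rfl
      rw [e]
      exact mul_mem (Subgroup.mem_sup_right (Subgroup.mem_subgroupOf.mpr hx))
        (Subgroup.mem_sup_left (Subgroup.mem_subgroupOf.mpr hb))
    haveI : (X.subgroupOf M).Normal := Subgroup.normal_in_normalizer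
    set B' := B.subgroupOf M
    set X' := X.subgroupOf M
    have h3 : (X' ⊓ B').relIndex B' = X'.index := by
      rw [Subgroup.inf_relIndex_right, ← Subgroup.relIndex_sup_right, htop,
        Subgroup.relIndex_top_right]
    have h4 := Subgroup.relIndex_mul_index (H := X' ⊓ B') (K := B') inf_le_right
    have h5 := Subgroup.relIndex_mul_index (H := X' ⊓ B') (K := X') inf_le_left
    rw [h3] at h4
    rw [Subgroup.inf_relIndex_left, hC, ← h4, mul_comm] at h5
    have h6 : NQ.relIndex X = B'.index :=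
      Nat.eq_of_mul_eq_mul_left (Nat.pos_of_ne_zero Subgroup.index_ne_zero_of_finite) h5
    rw [h6] at hidx
    exact hidx
  have hPM : P ≤ M := hPX
  obtain ⟨R⟩ : Nonempty (Sylow p (B.subgroupOf M)) := inferInstance
  set R' : Subgroup M := (R : Subgroup (B.subgroupOf M)).map (B.subgroupOf M).subtype with hR'
  have hR'p : IsPGroup p R' := R.isPGroup'.map _
  have hR'i : ¬ p ∣ R'.index := by
    rw [hR', Subgroup.index_map_subtype]
    exact (Fact.out : p.Prime).not_dvd_mul R.not_dvd_index hidx'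
  set S : Sylow p M := hR'p.toSylow hR'i with hS
  obtain ⟨T, hT⟩ := (hP.comap_of_injective M.subtype M.subtype_injective).exists_le_sylow
  obtain ⟨m, hm⟩ := MulAction.exists_smul_eq M S T
  refine ⟨(m : G) • Q, ?_, ?_⟩
  · rw [← hconjX m m.2]
    exact Subgroup.pointwise_smul_le_pointwise_smul_iff.mpr hQX
  · intro g hg
    have h1 : (⟨g, hPM hg⟩ : M) ∈ (T : Subgroup M) := hT hg
    rw [← hm] at h1
    obtain ⟨r, hr, hrg⟩ := h1
    have hr' : (r : G) ∈ NQ := by
      have h8 : r ∈ R' := hr
      obtain ⟨r', -, rfl⟩ := h8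
      exact (Subgroup.mem_subgroupOf.mp r'.2).2
    refine Sylow.smul_eq_iff_mem_normalizer.mp ?_
    have h9 : g = (m : G) * r * (m : G)⁻¹ := congrArg Subtype.val hrg.symm
    rw [h9, smul_smul, inv_mul_cancel_right, mul_smul, Sylow.smul_eq_iff_mem_normalizer.mpr hr']

end CfsgLib.SylowPairs
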